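import Groth.Agent.BorelLib.NonAffSelfNorm
import Groth.Agent.BorelLib.NonAffComp
import Groth.Agent.BorelLib.CentBor
import Groth.Agent.SemiAbLib.Points
import Groth.Agent.AVAmpleLib.HomDiv
import Groth.Agent.AntiAffLib.Image
import Groth.Agent.TransporterLib.Factor
import Groth.Agent.BorelLib.CentralPreimage

/-!
# Borel subgroups and homomorphisms with kernel in a solvable normal subgroup
-/

set_option autoImplicit false
set_option linter.style.haveILetI false
set_option linter.unusedSectionVars false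
set_option backward.isDefEq.respectTransparency false
set_option maxHeartbeats 1000000
set_option synthInstance.maxHeartbeats 400000

universe u

open CategoryTheory CategoryTheory.Limits MonoidalCategory CartesianMonoidalCategory AlgebraicGeometry WithConv
open scoped MonObj commutatorElement

noncomputable section

attribute [-instance] CategoryTheory.Hom.commGroup

namespace Groth.Agent.BorelLib.RadPre

open CentPre AVAmpleLib

variable {k : Type u} [Field k] [IsAlgClosed k] {G G' : Over (Spec (CommRingCat.of k))} [GrpObj G] [GrpObj G']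

/-- The kernel of `u` lies in a smooth connected solvable closed normal subgroup. -/
def KerInRad (u : G ⟶ G') : Prop :=
  ∃ (R : Over (Spec (CommRingCat.of k))) (_ : GrpObj R) (r : R ⟶ G), IsMonHom r ∧ IsClosedImmersion r.left ∧
    Smooth R.hom ∧ ConnectedSpace R.left ∧ Red.IsSolvableGrp R ∧
    (∀ (X : Over (Spec (CommRingCat.of k))) (g : X ⟶ G) (x : X ⟶ R), ∃ x' : X ⟶ R, g * (x ≫ r) * g⁻¹ = x' ≫ r) ∧
    (∀ (X : Over (Spec (CommRingCat.of k))) (g : X ⟶ G), g ≫ u = 1 → ∃ x : X ⟶ R, x ≫ r = g)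

section closure

variable {S T : Set (RPt G)}

/-- The points in the closure of a set of points. -/
def cl (S : Set (RPt G)) : Set (RPt G) := {g | pt g ∈ closure (pt '' S)}

theorem subset_cl : S ⊆ cl S := fun g hg => subset_closure ⟨g, hg, rfl⟩

theorem cl_comp (φ : G ⟶ G) (h : ∀ a ∈ S, a ≫ φ ∈ cl T) {g : RPt G} (hg : g ∈ cl S) : g ≫ φ ∈ cl T := by
  have hsub : closure (pt '' S) ⊆ φ.left ⁻¹' closure (pt '' T) := by
    refine closure_minimal ?_ (isClosed_closure.preimage φ.left.continuous)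
    rintro _ ⟨a, ha, rfl⟩
    exact h a ha
  exact hsub hg

/-- The closure of a subgroup of points. -/
def clSub (H : Subgroup (RPt G)) : Subgroup (RPt G) where
  carrier := cl (H : Set (RPt G))
  one_mem' := subset_cl H.one_mem
  mul_mem' {a b} ha hb := by
    have h1 : ∀ x ∈ H, x * b ∈ cl (H : Set (RPt G)) := fun x hx => by
      have e : ∀ g : RPt G, g ≫ ((toUnit G ≫ x) * 𝟙 G) = x * g := fun g => by
        rw [MonObj.comp_mul, Category.comp_id, ← Category.assoc, toUnit_unique (g ≫ toUnit G) (𝟙 _), Category.id_comp]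
      rw [← e]
      exact cl_comp _ (fun y hy => by rw [e]; exact subset_cl (H.mul_mem hx hy)) hb
    have e : ∀ g : RPt G, g ≫ (𝟙 G * (toUnit G ≫ b)) = g * b := fun g => by
      rw [MonObj.comp_mul, Category.comp_id, ← Category.assoc, toUnit_unique (g ≫ toUnit G) (𝟙 _), Category.id_comp]
    rw [← e]
    exact cl_comp _ (fun x hx => by rw [e]; exact h1 x hx) ha
  inv_mem' {a} ha := by
    have e : ∀ g : RPt G, g ≫ (𝟙 G)⁻¹ = g⁻¹ := fun g => by rw [GrpObj.comp_inv, Category.comp_id]
    show a⁻¹ ∈ cl (H : Set (RPt G))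
    rw [← e]
    exact cl_comp _ (fun y hy => by rw [e]; exact subset_cl (H.inv_mem hy)) ha

theorem commutator_clSub_le (H₁ H₂ : Subgroup (RPt G)) : ⁅clSub H₁, clSub H₂⁆ ≤ clSub ⁅H₁, H₂⁆ := by
  rw [Subgroup.commutator_le]
  intro a ha b hb
  have eR : ∀ (y g : RPt G), g ≫ ⁅𝟙 G, toUnit G ≫ y⁆ = ⁅g, y⁆ := fun y g => by
    simp only [commutatorElement_def, MonObj.comp_mul, GrpObj.comp_inv, Category.comp_id, ← Category.assoc]
    rw [toUnit_unique (g ≫ toUnit G) (𝟙 _), Category.id_comp]
  have eL : ∀ (x g : RPt G), g ≫ ⁅toUnit G ≫ x, 𝟙 G⁆ = ⁅x, g⁆ := fun x g => by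
    simp only [commutatorElement_def, MonObj.comp_mul, GrpObj.comp_inv, Category.comp_id, ← Category.assoc]
    rw [toUnit_unique (g ≫ toUnit G) (𝟙 _), Category.id_comp]
  have h1 : ∀ x ∈ H₁, ⁅x, b⁆ ∈ cl ((⁅H₁, H₂⁆ : Subgroup (RPt G)) : Set (RPt G)) := fun x hx => by
    rw [← eL]
    exact cl_comp _ (fun y hy => by rw [eL]; exact subset_cl (Subgroup.commutator_mem_commutator hx hy)) hb
  show ⁅a, b⁆ ∈ cl ((⁅H₁, H₂⁆ : Subgroup (RPt G)) : Set (RPt G))
  rw [← eR]
  exact cl_comp _ (fun x hx => by rw [eR]; exact h1 x hx) ha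

/-- A smooth subgroup in the closure of a solvable group of points is solvable. -/
theorem isSolvableGrp_of_dense [LocallyOfFiniteType G.hom] {Q : Over (Spec (CommRingCat.of k))} [GrpObj Q] [Smooth Q.hom] (q : Q ⟶ G) [IsMonHom q]
    [Mono q] (P : Subgroup (RPt G)) [Group.IsSolvable P] (hr : Set.range q.left ⊆ closure (pt '' (P : Set (RPt G)))) :
    Red.IsSolvableGrp Q := by
  obtain ⟨n, hn⟩ := Group.IsSolvable.solvable (G := P)
  refine isSolvableGrp_of_points (n := n) ?_
  have key : ∀ m, (derivedSeries (RPt Q) m).map (ptHom q) ≤ clSub ((derivedSeries P m).map P.subtype) := by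
    intro m
    induction m with
    | zero =>
      rintro _ ⟨a, -, rfl⟩
      show pt (a ≫ q) ∈ closure _
      rw [derivedSeries_zero, ← MonoidHom.range_eq_map, Subgroup.range_subtype]
      exact hr ⟨a.left (IsLocalRing.closedPoint k), rfl⟩
    | succ m ih =>
      rw [derivedSeries_succ, derivedSeries_succ, Subgroup.map_commutator, Subgroup.map_commutator]
      exact (Subgroup.commutator_mono ih ih).trans (commutator_clSub_le _ _)
  refine le_bot_iff.1 fun a ha => ?_
  have h : pt (a ≫ q) ∈ closure (pt '' ((((derivedSeries P n).map P.subtype) : Subgroup (RPt G)) : Set (RPt G))) :=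
    key n ⟨a, ha, rfl⟩
  rw [hn, Subgroup.map_bot, Subgroup.coe_bot, Set.image_singleton, (show IsClosed {pt (1 : RPt G)} from NRQuotLib.isClosed_pt _).closure_eq,
    Set.mem_singleton_iff] at h
  rw [Subgroup.mem_bot, ← cancel_mono q, MonObj.one_comp]
  exact Over.OverMorphism.ext (ext_of_apply_closedPoint_eq G.hom (Over.w _) (Over.w _) h)

end closure

theorem isSolvable_pts {R : Over (Spec (CommRingCat.of k))} [GrpObj R] (r : R ⟶ G) [IsMonHom r]
    (h : Red.IsSolvableGrp R) : Group.IsSolvable (ptHom r).range := by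
  obtain ⟨n, hn⟩ := h
  haveI : Group.IsSolvable (RPt R) := ⟨⟨n, hn _⟩⟩
  exact Group.isSolvable_of_surjective (f := (ptHom r).rangeRestrict) (MonoidHom.rangeRestrict_surjective _)

theorem isSolvable_sup (P N : Subgroup (RPt G)) [hN : N.Normal] [Group.IsSolvable P] [Group.IsSolvable N] :
    Group.IsSolvable ↥(P ⊔ N) := by
  let g : ↥(P ⊔ N) →* ((QuotientGroup.mk' N).comp P.subtype).range :=
    ((QuotientGroup.mk' N).comp (P ⊔ N).subtype).codRestrict _ fun x => by
      obtain ⟨p, hp, n, hn, h⟩ := Subgroup.mem_sup_of_normal_right.1 x.2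
      refine ⟨⟨p, hp⟩, ?_⟩
      show QuotientGroup.mk' N p = QuotientGroup.mk' N (x : RPt G)
      rw [← h, map_mul, show QuotientGroup.mk' N n = 1 from (QuotientGroup.eq_one_iff n).2 hn, mul_one]
  haveI : Group.IsSolvable ((QuotientGroup.mk' N).comp P.subtype).range :=
    Group.isSolvable_of_surjective (f := ((QuotientGroup.mk' N).comp P.subtype).rangeRestrict)
      (MonoidHom.rangeRestrict_surjective _)
  refine Group.isSolvable_of_ker_le_range (Subgroup.inclusion (le_sup_right : N ≤ P ⊔ N)) g fun x hx => ?_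
  have h1 : QuotientGroup.mk' N (x : RPt G) = 1 := congrArg Subtype.val (MonoidHom.mem_ker.1 hx)
  exact ⟨⟨x, (QuotientGroup.eq_one_iff _).1 h1⟩, Subtype.ext rfl⟩

variable [Smooth G.hom] [QuasiCompact G.hom] [ConnectedSpace G.left] [Smooth G'.hom] [QuasiCompact G'.hom]
  [ConnectedSpace G'.left] {u : G ⟶ G'} [IsMonHom u] [Surjective u.left]

omit [ConnectedSpace G.left] [Smooth G'.hom] [QuasiCompact G'.hom] [ConnectedSpace G'.left] in
/-- A smooth connected solvable normal subgroup lies in every Borel subgroup. -/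
theorem exists_factor_normal {R B : Over (Spec (CommRingCat.of k))} [GrpObj R] [GrpObj B] (r : R ⟶ G) [IsMonHom r]
    [IsClosedImmersion r.left] [Smooth R.hom] [ConnectedSpace R.left] (hRs : Red.IsSolvableGrp R)
    (hn : ∀ (X : Over (Spec (CommRingCat.of k))) (g : X ⟶ G) (x : X ⟶ R), ∃ x' : X ⟶ R, g * (x ≫ r) * g⁻¹ = x' ≫ r)
    {b : B ⟶ G} (hB : Red.IsBorelOver k b) : ∃ φ : R ⟶ B, φ ≫ b = r := by
  obtain ⟨hBi, hBc, hBs, hBconn, hBsol, hBmax⟩ := id hB
  haveI := hBi; haveI := hBc; haveI := hBs; haveI := hBconn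
  haveI : IsSeparated G.hom := Groth.Agent.GrpField.isSeparated_grp (G := G)
  haveI : QuasiCompact B.hom := by rw [← Over.w b]; infer_instance
  haveI : QuasiCompact R.hom := by rw [← Over.w r]; infer_instance
  haveI : AlgebraicGeometry.IsReduced R.left := AlgSpLib.isReduced_of_smooth R.hom
  haveI : AlgebraicGeometry.IsReduced B.left := AlgSpLib.isReduced_of_smooth B.hom
  haveI : (ptHom r).range.Normal := ⟨fun _ ⟨x, hx⟩ g => by
    obtain ⟨x', hx'⟩ := hn _ g x
    exact ⟨x', hx'.symm.trans (by rw [← hx]; rfl)⟩⟩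
  haveI := isSolvable_pts r hRs
  haveI := isSolvable_pts b hBsol
  haveI := isSolvable_sup (ptHom b).range (ptHom r).range
  set P := (ptHom b).range ⊔ (ptHom r).range
  let m : B ⊗ R ⟶ G := (fst B R ≫ b) * (snd B R ≫ r)
  haveI : Smooth (B ⊗ R).hom := inferInstanceAs (Smooth (pullback.fst B.hom R.hom ≫ B.hom))
  haveI : ConnectedSpace (B ⊗ R).left := by
    haveI := CommSubLib.geometricallyIrreducible_of_connected B
    haveI : IrreducibleSpace R.left := by
      haveI := CommSubLib.geometricallyIrreducible_of_connected R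
      exact GeometricallyIrreducible.irreducibleSpace_of_subsingleton R.hom
    haveI := Groth.Agent.GrpField.universallyOpen_field B.hom
    show ConnectedSpace ↥(pullback B.hom R.hom)
    infer_instance
  have hm : ∀ z : RPt (B ⊗ R), z ≫ m = ((z ≫ fst B R) ≫ b) * ((z ≫ snd B R) ≫ r) := fun z => by
    simp only [m, MonObj.comp_mul, Category.assoc]
  obtain ⟨Q, _, q, hq, hqc, hqs, hr⟩ := DenseSubLib.exists_smooth_subgroup (A := G) P
  haveI := hq; haveI := hqc; haveI := hqs
  haveI : Mono q := DiagRep.mono_of_isClosedImmersion q hqc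
  have hclos : closure (pt '' (P : Set (RPt G))) = closure (Set.range m.left) := by
    refine subset_antisymm (closure_mono ?_) (closure_minimal ?_ isClosed_closure)
    · rintro _ ⟨g, hg, rfl⟩
      obtain ⟨_, ⟨x, rfl⟩, _, ⟨y, rfl⟩, rfl⟩ := Subgroup.mem_sup_of_normal_right.1 hg
      refine ⟨(lift x y : RPt (B ⊗ R)).left (IsLocalRing.closedPoint k), ?_⟩
      show pt (lift x y ≫ m) = _
      rw [hm, lift_fst, lift_snd]
      rfl
    · refine AVAmpleLib.range_subset_of_points m isClosed_closure fun z => ?_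
      rw [hm]
      exact subset_closure ⟨_, P.mul_mem (Subgroup.mem_sup_left ⟨_, rfl⟩) (Subgroup.mem_sup_right ⟨_, rfl⟩), rfl⟩
  haveI : ConnectedSpace Q.left := by
    have h := (isConnected_range m.left.continuous).closure
    rw [← hclos, ← hr, ← Set.image_univ] at h
    refine connectedSpace_iff_univ.2 ⟨?_, ?_⟩
    · obtain ⟨_, z, hz, -⟩ := h.1
      exact ⟨z, trivial⟩
    · exact q.left.isEmbedding.toIsInducing.isPreconnected_image.1 h.2
  haveI : LocallyOfFiniteType Q.hom := inferInstance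
  obtain ⟨f, hf⟩ := NA.exists_factor_of_pts b q fun a => NA.exists_pt_of_mem_range q _ (by
    rw [hr]; exact subset_closure ⟨a ≫ b, Subgroup.mem_sup_left ⟨a, rfl⟩, rfl⟩)
  haveI := hBmax Q q f hqc hqs inferInstance (isSolvableGrp_of_dense q P hr.le) hf
  obtain ⟨φ, hφ⟩ := NA.exists_factor_of_pts r q fun a => NA.exists_pt_of_mem_range q _ (by
    rw [hr]; exact subset_closure ⟨a ≫ r, Subgroup.mem_sup_right ⟨a, rfl⟩, rfl⟩)
  exact ⟨φ ≫ inv f, by rw [Category.assoc, ← hf, IsIso.inv_hom_id_assoc, hφ]⟩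

omit [Smooth G'.hom] [QuasiCompact G'.hom] [ConnectedSpace G'.left] [ConnectedSpace G.left] in
/-- The kernel lies in every Borel subgroup. -/
theorem exists_factor_borel (hker : KerInRad u) {B : Over (Spec (CommRingCat.of k))} [GrpObj B] {b : B ⟶ G}
    (hB : Red.IsBorelOver k b) (X : Over (Spec (CommRingCat.of k))) (z : X ⟶ G) (hz : z ≫ u = 1) :
    ∃ y : X ⟶ B, y ≫ b = z := by
  obtain ⟨R, _, r, hr, hrc, hRsm, hRc, hRs, hRn, hk⟩ := hker
  haveI := hr; haveI := hrc; haveI := hRsm; haveI := hRc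
  obtain ⟨φ, hφ⟩ := exists_factor_normal r hRs hRn hB
  obtain ⟨x, hx⟩ := hk X z hz
  exact ⟨x ≫ φ, by rw [Category.assoc, hφ, hx]⟩

/-- **The image of a Borel subgroup is a Borel subgroup, of which it is the inverse image.** -/
theorem exists_image_borel (hker : KerInRad u) {B : Over (Spec (CommRingCat.of k))} [GrpObj B] {b : B ⟶ G}
    (hB : Red.IsBorelOver k b) : ∃ (C : Over (Spec (CommRingCat.of k))) (_ : GrpObj C) (c : C ⟶ G') (p : B ⟶ C),
      Red.IsBorelOver k c ∧ IsMonHom p ∧ Surjective p.left ∧ IsPullback b p u c := by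
  obtain ⟨hBi, hBc, hBs, hBconn, hBsol, hBmax⟩ := id hB
  haveI := hBi; haveI := hBc; haveI := hBs; haveI := hBconn
  haveI : Mono b := DiagRep.mono_of_isClosedImmersion b hBc
  haveI : IsSeparated G.hom := Groth.Agent.GrpField.isSeparated_grp (G := G)
  haveI : IsSeparated G'.hom := Groth.Agent.GrpField.isSeparated_grp (G := G')
  haveI : QuasiCompact B.hom := by rw [← Over.w b]; infer_instance
  haveI : AlgebraicGeometry.IsReduced B.left := AlgSpLib.isReduced_of_smooth B.hom
  obtain ⟨C, _, c, hc, hcc, hcs, hpts, hconn⟩ := NA.exists_image (b ≫ u)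
  haveI := hc; haveI := hcc; haveI := hcs; haveI := hconn hBconn
  haveI : Mono c := DiagRep.mono_of_isClosedImmersion c hcc
  haveI : QuasiCompact C.hom := by rw [← Over.w c]; infer_instance
  haveI : IsSeparated C.hom := Groth.Agent.GrpField.isSeparated_grp (G := C)
  haveI : AlgebraicGeometry.IsReduced C.left := AlgSpLib.isReduced_of_smooth C.hom
  obtain ⟨p, hp⟩ := NA.exists_factor_of_pts (b ≫ u) c fun a => (hpts _).2 ⟨a, rfl⟩
  haveI : IsMonHom (p ≫ c) := by rw [hp]; infer_instance
  haveI : IsMonHom p := DiagRep.isMonHom_of_comp_mono p c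
  haveI : Surjective p.left := SemiAbLib.surjective_of_pts p fun y => by
    obtain ⟨a, ha⟩ := (hpts (y ≫ c)).1 ⟨y, rfl⟩
    exact ⟨a, by rw [← cancel_mono c, Category.assoc, hp, ha]⟩
  haveI : Flat p.left := AntiAffLib.flat_of_surjective p
  refine ⟨C, inferInstance, c, p,
    ⟨hc, hcc, hcs, inferInstance, NA.isSolvableGrp_of_surjective (b ≫ u) c hBsol fun y => (hpts _).1 ⟨y, rfl⟩, ?_⟩,
    inferInstance, inferInstance, CentPre.isPullback_of_ker_le hp.symm (exists_factor_borel hker hB)⟩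
  intro B'' _ i' _ f hi'c hs'' hconn'' hsol'' hf
  haveI := hi'c; haveI := hs''; haveI := hconn''
  haveI : Mono i' := DiagRep.mono_of_isClosedImmersion i' hi'c
  haveI : QuasiCompact B''.hom := by rw [← Over.w i']; infer_instance
  haveI : IsSeparated B''.hom := Groth.Agent.GrpField.isSeparated_grp (G := B'')
  haveI : AlgebraicGeometry.IsReduced B''.left := AlgSpLib.isReduced_of_smooth B''.hom
  obtain ⟨Q, _, q, hq, hqc, hqs, hr⟩ := DenseSubLib.exists_smooth_subgroup (A := G)
    ((ptHom i').range.comap (ptHom u))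
  haveI := hq; haveI := hqc; haveI := hqs
  haveI : Mono q := DiagRep.mono_of_isClosedImmersion q hqc
  haveI : QuasiCompact Q.hom := by rw [← Over.w q]; infer_instance
  haveI : AlgebraicGeometry.IsReduced Q.left := AlgSpLib.isReduced_of_smooth Q.hom
  have hQ : ∀ a : RPt Q, ∃ y : RPt B'', y ≫ i' = a ≫ q ≫ u := fun a => by
    refine NA.exists_pt_of_mem_range i' _ ?_
    have h0 : Set.range q.left ⊆ u.left ⁻¹' Set.range i'.left := by
      rw [hr]
      refine closure_minimal ?_ (i'.left.isClosedEmbedding.isClosed_range.preimage u.left.continuous)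
      rintro _ ⟨g, ⟨y, hy⟩, rfl⟩
      have hy' : y ≫ i' = g ≫ u := hy
      exact ⟨y.left (IsLocalRing.closedPoint k), by
        show (y ≫ i').left (IsLocalRing.closedPoint k) = _
        rw [hy']; rfl⟩
    exact h0 ⟨a.left (IsLocalRing.closedPoint k), rfl⟩
  have hPQ : ∀ g : RPt G, (∃ y : RPt B'', y ≫ i' = g ≫ u) → ∃ a : RPt Q, a ≫ q = g := fun g hg => by
    refine NA.exists_pt_of_mem_range q g ?_
    rw [hr]
    exact subset_closure ⟨g, hg, rfl⟩
  obtain ⟨w, hw⟩ := NA.exists_factor_of_pts (q ≫ u) i' fun a => hQ a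
  haveI : IsMonHom (w ≫ i') := by rw [hw]; infer_instance
  haveI : IsMonHom w := DiagRep.isMonHom_of_comp_mono w i'
  haveI : Surjective w.left := SemiAbLib.surjective_of_pts w fun y => by
    obtain ⟨g, hg⟩ := AVAmpleLib.exists_pt_lift u (y ≫ i')
    obtain ⟨a, ha⟩ := hPQ g ⟨y, hg.symm⟩
    exact ⟨a, by rw [← cancel_mono i', Category.assoc, hw, ← Category.assoc, ha, hg]⟩
  haveI : Flat w.left := AntiAffLib.flat_of_surjective w
  haveI : LocallyOfFinitePresentation w.left := AntiAffLib.lfp_of_lft w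
  obtain ⟨Q₀, _, j, hj, hjc, hjo, hjs, hjconn, hfac⟩ := exists_comp_open (G := Q)
  haveI := hj; haveI := hjc; haveI := hjo; haveI := hjs; haveI := hjconn
  haveI : Mono j := DiagRep.mono_of_isClosedImmersion j hjc
  obtain ⟨bq, hbq⟩ := NA.exists_factor_of_pts b q fun a => hPQ (a ≫ b) ⟨a ≫ p ≫ f, by
    simp only [Category.assoc, hf, hp]⟩
  haveI : IsMonHom (bq ≫ q) := by rw [hbq]; infer_instance
  haveI : IsMonHom bq := DiagRep.isMonHom_of_comp_mono bq q
  obtain ⟨f₁, hf₁⟩ := hfac B bq
  obtain ⟨m, hm⟩ := hsol''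
  have hsolQ : Red.IsSolvableGrp Q₀ := by
    haveI : Mono (j ≫ q) := mono_comp _ _
    haveI : IsMonHom (j ≫ q) := inferInstance
    haveI : IsMonHom (j ≫ w) := inferInstance
    obtain ⟨R, _, r, hr', hrc, -, -, hRs, -, hk⟩ := hker
    haveI := hr'
    haveI : Group.IsSolvable (RPt B'') := ⟨⟨m, hm _⟩⟩
    haveI := isSolvable_pts r hRs
    have hkR : ∀ a : RPt Q₀, a ≫ j ≫ w = 1 → (a ≫ j ≫ q) ∈ (ptHom r).range := fun a h3 => by
      obtain ⟨x, hx⟩ := hk _ (a ≫ j ≫ q) (by
        calc (a ≫ j ≫ q) ≫ u = (a ≫ j ≫ w) ≫ i' := by simp only [Category.assoc, hw]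
          _ = 1 := by rw [h3, MonObj.one_comp])
      exact ⟨x, hx⟩
    let ρ : (ptHom (j ≫ w)).ker →* (ptHom r).range :=
      ((ptHom (j ≫ q)).comp (ptHom (j ≫ w)).ker.subtype).codRestrict _ fun a => hkR a.1 a.2
    haveI : Group.IsSolvable (ptHom (j ≫ w)).ker := Group.isSolvable_of_isSolvable_injective (f := ρ) fun a a' h =>
      Subtype.ext ((cancel_mono (j ≫ q)).1 (congrArg Subtype.val h))
    obtain ⟨l, hl⟩ := (Group.isSolvable_of_ker_le_range (ptHom (j ≫ w)).ker.subtype (ptHom (j ≫ w))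
      (Subgroup.range_subtype _).ge).solvable
    exact isSolvableGrp_of_points (n := l) hl
  haveI : IsClosedImmersion (j ≫ q).left := by rw [Over.comp_left]; infer_instance
  haveI := hBmax Q₀ (j ≫ q) f₁ inferInstance hjs hjconn hsolQ (by rw [← Category.assoc, hf₁, hbq])
  haveI : IsIso f₁.left := (Over.forget _).map_isIso f₁
  have he : f₁ ≫ j ≫ w = p ≫ f := by
    rw [← cancel_mono i']
    simp only [Category.assoc, hw, hf, hp]
    rw [← Category.assoc j, ← Category.assoc f₁, ← Category.assoc f₁, hf₁, hbq]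
  have hopen : IsOpen (Set.range f.left) := by
    have h1 : Set.range f.left = Set.range (p ≫ f).left := by
      rw [Over.comp_left, Scheme.Hom.comp_base, TopCat.coe_comp, Set.range_comp, p.left.surjective.range_eq,
        Set.image_univ]
    rw [h1, ← he, Over.comp_left, Over.comp_left, Scheme.Hom.comp_base, TopCat.coe_comp, Set.range_comp,
      f₁.left.surjective.range_eq, Set.image_univ, Scheme.Hom.comp_base, TopCat.coe_comp, Set.range_comp]
    exact w.left.isOpenMap _ j.left.isOpenEmbedding.isOpen_range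
  haveI : IsClosedImmersion (f.left ≫ i'.left) := by rw [← Over.comp_left, hf]; infer_instance
  haveI : IsClosedImmersion f.left := IsClosedImmersion.of_comp f.left i'.left
  haveI : Surjective f.left := ⟨fun y => by
    have := IsClopen.eq_univ (s := Set.range f.left) ⟨f.left.isClosedEmbedding.isClosed_range, hopen⟩
      (Set.range_nonempty _)
    exact this.ge (Set.mem_univ y)⟩
  haveI : IsIso f.left := isIso_of_isClosedImmersion_of_surjective f.left
  haveI : IsIso ((Over.forget _).map f) := ‹IsIso f.left›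
  exact isIso_of_reflects_iso f (Over.forget _)

/-- **The inverse image of a Borel subgroup is a Borel subgroup.** -/
theorem isBorelOver_of_isPullback (hker : KerInRad u) {B C' : Over (Spec (CommRingCat.of k))} [GrpObj B] [GrpObj C']
    {b : B ⟶ G} [IsMonHom b] {v : B ⟶ C'} {c' : C' ⟶ G'} (hC : Red.IsBorelOver k c') (hpb : IsPullback b v u c') :
    Red.IsBorelOver k b := by
  haveI : IsSeparated G'.hom := Groth.Agent.GrpField.isSeparated_grp (G := G')
  obtain ⟨B₁, _, b₁, hB₁, -⟩ := NA.exists_borel_mem (G := G) 1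
  obtain ⟨C, _, c, p, hc, hp, -, hpb₁⟩ := exists_image_borel hker hB₁
  obtain ⟨g', φ, hφ⟩ := NA.borel_conj hc hC
  obtain ⟨g, rfl⟩ := AVAmpleLib.exists_pt_lift u g'
  let e := AGF.conjBy g (𝟙 G)
  let e' := AGF.conjBy (g ≫ u) (𝟙 G')
  haveI : IsIso e := inferInstanceAs (IsIso (AGF.conjBy g (𝟙 G)))
  haveI : IsIso e' := inferInstanceAs (IsIso (AGF.conjBy (g ≫ u) (𝟙 G')))
  haveI : IsMonHom e := DiagRep.isMonHom_conjBy g
  have hee : u ≫ e' = e ≫ u := by
    simp only [e, e', AGF.conjBy, MonObj.comp_mul, GrpObj.comp_inv, MonObj.mul_comp, GrpObj.inv_comp,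
      ← Category.assoc, Category.comp_id, Category.id_comp]
    rw [toUnit_unique (u ≫ toUnit G') (toUnit G)]
  have hce : c ≫ e' = φ.hom ≫ c' := (DiagRep.conjBy_eq_comp (g ≫ u) c).symm.trans hφ
  have hpb₂ : IsPullback (b₁ ≫ e) (p ≫ φ.hom) u c' :=
    hpb₁.of_iso (Iso.refl B₁) (asIso e) φ (asIso e') (by simp) (by simp) hee hce
  let ψ := hpb.isoIsPullback _ _ hpb₂
  haveI : IsMonHom (asIso e).hom := ‹IsMonHom e›
  exact isBorelOver_iso hB₁ (asIso e) ψ (hpb.isoIsPullback_hom_fst _ _ hpb₂)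

/-- **A closed subgroup whose inverse image is a Borel subgroup is a Borel subgroup.** -/
theorem isBorelOver_of_isPullback' (hker : KerInRad u) {B C' : Over (Spec (CommRingCat.of k))} [GrpObj B] [GrpObj C']
    {b : B ⟶ G} {v : B ⟶ C'} [Surjective v.left] {c' : C' ⟶ G'} [IsMonHom c'] [IsClosedImmersion c'.left]
    [Smooth C'.hom] (hB : Red.IsBorelOver k b) (hpb : IsPullback b v u c') :
    Red.IsBorelOver k c' := by
  obtain ⟨hBi, hBc, hBs, -⟩ := id hB
  haveI := hBi; haveI := hBc; haveI := hBs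
  haveI : IsSeparated G'.hom := Groth.Agent.GrpField.isSeparated_grp (G := G')
  haveI : IsSeparated C'.hom := Groth.Agent.GrpField.isSeparated_grp (G := C')
  obtain ⟨C, _, c, p, hc, -, hps, hpb₁⟩ := exists_image_borel hker hB
  haveI := hps; haveI := hc.1; haveI := hc.2.1; haveI := hc.2.2.1
  haveI : IsSeparated C.hom := Groth.Agent.GrpField.isSeparated_grp (G := C)
  haveI : AlgebraicGeometry.IsReduced C.left := AlgSpLib.isReduced_of_smooth C.hom
  haveI : AlgebraicGeometry.IsReduced C'.left := AlgSpLib.isReduced_of_smooth C'.hom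
  obtain ⟨e, he⟩ := NA.exists_iso_of_pts c' c fun g => by
    constructor
    · rintro ⟨y, rfl⟩
      obtain ⟨a, ha⟩ := AVAmpleLib.exists_pt_lift v y
      exact ⟨a ≫ p, by rw [Category.assoc, ← hpb₁.w, hpb.w, ← Category.assoc, ha]⟩
    · rintro ⟨y, rfl⟩
      obtain ⟨a, ha⟩ := AVAmpleLib.exists_pt_lift p y
      exact ⟨a ≫ v, by rw [Category.assoc, ← hpb.w, hpb₁.w, ← Category.assoc, ha]⟩
  haveI : IsMonHom (Iso.refl G').hom := inferInstanceAs (IsMonHom (𝟙 G'))
  exact isBorelOver_iso hc (Iso.refl G') e (by simp [he])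

end Groth.Agent.BorelLib.RadPre

end
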